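import Groth.Agent.Rig7.Main
import Groth.Agent.LC.CanonComplete
import Groth.Agent.ConormalAlgz.Equiv
import Mathlib

/-! One-dimensional components of henselian rings and of their completions. -/

set_option autoImplicit false
universe u

namespace Groth.Agent.Rig7

open IsLocalRing

/-- There is a component of dimension one. -/
def HasCurveComponent (R : Type u) [CommRing R] : Prop :=
  ∃ P ∈ minimalPrimes R, ringKrullDim (R ⧸ P) = 1

theorem dim_eq_one_iff {R : Type u} [CommRing R] [IsLocalRing R] (P : Ideal R) [P.IsPrime] :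
    ringKrullDim (R ⧸ P) = 1 ↔ P ≠ maximalIdeal R ∧ ∀ Q : Ideal R, Q.IsPrime → P < Q → Q = maximalIdeal R := by
  have hm : ∀ Q : Ideal R, Q.IsPrime → Q ≤ maximalIdeal R := fun Q hQ => IsLocalRing.le_maximalIdeal hQ.ne_top
  rw [ringKrullDim_quotient, le_antisymm_iff, Order.krullDim_le_one_iff, Order.one_le_krullDim_iff, and_comm]
  constructor
  · rintro ⟨⟨x, y, hxy⟩, h⟩
    refine ⟨fun hP => ?_, fun Q hQ hPQ => ?_⟩
    · have h1 : maximalIdeal R ≤ x.1.asIdeal := hP ▸ x.2
      exact (not_le_of_gt (show x.1.asIdeal < y.1.asIdeal from hxy)) ((hm _ y.1.2).trans h1)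
    · rcases h ⟨⟨Q, hQ⟩, hPQ.le⟩ with hmin | hmax
      · exact absurd (hmin (b := ⟨⟨P, inferInstance⟩, (le_refl P)⟩) hPQ.le) (not_le_of_gt hPQ)
      · exact le_antisymm (hm Q hQ) (hmax (b := ⟨⟨maximalIdeal R, inferInstance⟩, hm P inferInstance⟩) (hm Q hQ))
  · rintro ⟨hne, h⟩
    refine ⟨⟨⟨⟨P, inferInstance⟩, le_refl P⟩, ⟨⟨maximalIdeal R, inferInstance⟩, hm P inferInstance⟩,
      lt_of_le_of_ne (hm P inferInstance) fun e => hne (congrArg (fun z => z.1.asIdeal) e)⟩, fun x => ?_⟩
    by_cases hx : P = x.1.asIdeal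
    · exact Or.inl fun b _ => (show x.1.asIdeal ≤ b.1.asIdeal from hx ▸ b.2)
    · refine Or.inr fun b _ => ?_
      show b.1.asIdeal ≤ x.1.asIdeal
      rw [h x.1.asIdeal x.1.2 (lt_of_le_of_ne x.2 hx)]
      exact hm _ b.1.2

theorem HasCurveComponent.of_ringEquiv {R S : Type u} [CommRing R] [CommRing S] (e : R ≃+* S)
    (h : HasCurveComponent R) : HasCurveComponent S := by
  obtain ⟨P, hP, hd⟩ := h
  haveI := hP.1.1
  refine ⟨P.map e, ⟨⟨Ideal.map_isPrime_of_equiv e, bot_le⟩, fun Q hQ hle => ?_⟩, ?_⟩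
  · haveI := hQ.1
    have h1 : Q.comap e ≤ P := fun x hx => by
      have h2 := hle hx
      rw [← Ideal.comap_symm, Ideal.mem_comap, RingEquiv.symm_apply_apply] at h2
      exact h2
    exact Ideal.map_le_iff_le_comap.2 (hP.2 ⟨Ideal.IsPrime.comap e, bot_le⟩ h1)
  · rw [← hd]
    exact (ringKrullDim_eq_of_ringEquiv (Ideal.quotientEquiv P (P.map e) e rfl)).symm

variable (R : Type u) [CommRing R] [IsLocalRing R]

/-- The punctured spectrum. -/
def punct : Set (PrimeSpectrum R) := {x | x.asIdeal ≠ maximalIdeal R}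

variable {R}

theorem isOpen_punct : IsOpen (punct R) := by
  have : punct R = (PrimeSpectrum.zeroLocus (maximalIdeal R : Set R))ᶜ := by
    ext x
    show x.asIdeal ≠ maximalIdeal R ↔ ¬ (maximalIdeal R : Set R) ⊆ x.asIdeal
    exact ⟨fun h hs => h ((le_antisymm (IsLocalRing.le_maximalIdeal x.2.ne_top) hs)),
      fun h he => h (he ▸ subset_rfl)⟩
  rw [this]
  exact (PrimeSpectrum.isClosed_zeroLocus _).isOpen_compl

/-- One-dimensional components are the isolated points of the punctured spectrum. -/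
theorem hasCurveComponent_iff [IsNoetherianRing R] :
    HasCurveComponent R ↔ ∃ x : PrimeSpectrum R, RelClopen (punct R) {x} := by
  constructor
  · rintro ⟨P, hP, hd⟩
    haveI := hP.1.1
    rw [dim_eq_one_iff] at hd
    refine ⟨⟨P, hP.1.1⟩, Set.singleton_subset_iff.2 hd.1, ?_, ?_⟩
    · let s : Set (Ideal R) := minimalPrimes R \ {P}
      have hs : s.Finite := (minimalPrimes.finite_of_isNoetherianRing R).subset Set.sdiff_subset
      have hsing : ({⟨P, hP.1.1⟩} : Set (PrimeSpectrum R)) =
          punct R ∩ (⋃ Q ∈ s, PrimeSpectrum.zeroLocus (Q : Set R))ᶜ := by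
        ext x
        simp only [Set.mem_singleton_iff, Set.mem_inter_iff, Set.mem_compl_iff, Set.mem_iUnion, not_exists]
        constructor
        · rintro rfl
          refine ⟨hd.1, fun Q hQ hle => hQ.2 ?_⟩
          exact le_antisymm hle (hP.2 hQ.1.1 hle)
        · rintro ⟨hx, hno⟩
          obtain ⟨Q, hQ, hQx⟩ := Ideal.exists_minimalPrimes_le (I := (⊥ : Ideal R)) (J := x.asIdeal) bot_le
          have hQP : Q = P := by
            by_contra hne
            exact hno Q ⟨hQ, hne⟩ hQx
          subst hQP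
          refine PrimeSpectrum.ext (le_antisymm ?_ hQx)
          by_contra hne
          exact hx (hd.2 _ x.2 (lt_of_le_of_ne hQx fun e => hne e.ge))
      rw [hsing]
      exact isOpen_punct.inter (hs.isClosed_biUnion fun Q _ => PrimeSpectrum.isClosed_zeroLocus _).isOpen_compl
    · have hd' : punct R \ {⟨P, hP.1.1⟩} = punct R ∩ (PrimeSpectrum.zeroLocus (P : Set R))ᶜ := by
        ext x
        simp only [Set.mem_sdiff, Set.mem_singleton_iff, Set.mem_inter_iff, Set.mem_compl_iff]
        refine and_congr_right fun hx => ⟨fun hne hle => hx (hd.2 _ x.2 (lt_of_le_of_ne (show P ≤ x.asIdeal from hle) ?_)), fun h he => h ?_⟩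
        · exact fun e => hne (PrimeSpectrum.ext e.symm)
        · subst he; exact fun _ h => h
      rw [hd']
      exact isOpen_punct.inter (PrimeSpectrum.isClosed_zeroLocus _).isOpen_compl
  · rintro ⟨x, hx, hxo, hxo'⟩
    obtain ⟨Q, hQ, hQx⟩ := Ideal.exists_minimalPrimes_le (I := (⊥ : Ideal R)) (J := x.asIdeal) bot_le
    have hgen : (⟨Q, hQ.1.1⟩ : PrimeSpectrum R) = x :=
      hxo.stableUnderGeneralization ((PrimeSpectrum.le_iff_specializes ⟨Q, hQ.1.1⟩ x).1 hQx) rfl
    have hmin : x.asIdeal ∈ minimalPrimes R := hgen ▸ hQ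
    refine ⟨x.asIdeal, hmin, (dim_eq_one_iff _).2 ⟨hx rfl, fun Q' hQ' hlt => ?_⟩⟩
    by_contra hne
    exact (hxo'.stableUnderGeneralization ((PrimeSpectrum.le_iff_specializes x ⟨Q', hQ'⟩).1 hlt.le)
      (show (⟨Q', hQ'⟩ : PrimeSpectrum R) ∈ punct R \ {x} from ⟨hne, fun e => hlt.ne (congrArg PrimeSpectrum.asIdeal e).symm⟩)).2 rfl

/-- One-dimensional components can be read in the completion. -/
theorem hasCurveComponent_completion_iff [IsNoetherianRing R] [HenselianLocalRing R] :
    HasCurveComponent R ↔ HasCurveComponent (AdicCompletion (maximalIdeal R) R) := by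
  let C := AdicCompletion (maximalIdeal R) R
  haveI : IsNoetherianRing C := LC.Canon.isNoetherianRing_completion (R := R)
  haveI : Module.FaithfullyFlat R C := LC.Canon.faithfullyFlat_completion (R := R)
  haveI : IsLocalRing C := AdicCompletion.isLocalRing_of_fg (IsNoetherian.noetherian _)
  have hmC : (maximalIdeal R).map (algebraMap R C) = maximalIdeal C :=
    (AdicCompletion.maximalIdeal_eq_map_of_fg (IsNoetherian.noetherian _)).symm
  have hpre : PrimeSpectrum.comap (algebraMap R C) ⁻¹' punct R = punct C := by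
    ext y
    show y.asIdeal.comap (algebraMap R C) ≠ maximalIdeal R ↔ y.asIdeal ≠ maximalIdeal C
    refine not_congr ⟨fun h => le_antisymm (IsLocalRing.le_maximalIdeal y.2.ne_top) ?_, fun h => ?_⟩
    · rw [← hmC]; exact Ideal.map_le_iff_le_comap.2 h.ge
    · exact le_antisymm (IsLocalRing.le_maximalIdeal (Ideal.IsPrime.comap (algebraMap R C)).ne_top)
        (Ideal.map_le_iff_le_comap.1 (hmC.trans h.symm).le)
  haveI : HenselianRing R (maximalIdeal R) := inferInstance
  have hbij := clopBij_completion (maximalIdeal R) (IsNoetherian.noetherian _) (punct R) isOpen_punct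
    (TopologicalSpace.NoetherianSpace.isCompact _) (fun x hx => (not_not.1 hx).ge)
  constructor
  · rintro ⟨P, hP, hd⟩
    haveI := hP.1.1
    rw [dim_eq_one_iff] at hd
    obtain ⟨y, hy⟩ := PrimeSpectrum.comap_surjective_of_faithfullyFlat (B := C) (⟨P, hP.1.1⟩ : PrimeSpectrum R)
    obtain ⟨Q, hQ, hQy⟩ := Ideal.exists_minimalPrimes_le (I := (⊥ : Ideal C)) (J := y.asIdeal) bot_le
    haveI := hQ.1.1
    have hyP : y.asIdeal.comap (algebraMap R C) = P := congrArg PrimeSpectrum.asIdeal hy
    have hQP : Q.comap (algebraMap R C) = P :=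
      le_antisymm ((Ideal.comap_mono hQy).trans hyP.le)
        (hP.2 ⟨Ideal.IsPrime.comap _, bot_le⟩ ((Ideal.comap_mono hQy).trans hyP.le))
    refine ⟨Q, hQ, (dim_eq_one_iff Q).2 ⟨fun h => hd.1 ?_, fun Q' hQ' hlt => ?_⟩⟩
    · rw [← hQP, h]
      exact le_antisymm (IsLocalRing.le_maximalIdeal (Ideal.IsPrime.comap (algebraMap R C)).ne_top)
        (Ideal.map_le_iff_le_comap.1 hmC.le)
    · by_contra hne
      obtain ⟨a, ha, haP⟩ : ∃ a ∈ maximalIdeal R, a ∉ P := SetLike.not_le_iff_exists.1
        fun h => hd.1 (le_antisymm (IsLocalRing.le_maximalIdeal hP.1.1.ne_top) h)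
      have hup : ∀ T : Ideal C, T.IsPrime → Q ≤ T → algebraMap R C a ∈ T → T = maximalIdeal C := by
        intro T hT hQT haT
        haveI := hT
        have hlt' : P < T.comap (algebraMap R C) :=
          lt_of_le_of_ne (hQP ▸ Ideal.comap_mono hQT) fun e => haP (e ▸ haT)
        have := hd.2 _ inferInstance hlt'
        refine le_antisymm (IsLocalRing.le_maximalIdeal hT.ne_top) ?_
        rw [← hmC]; exact Ideal.map_le_iff_le_comap.2 this.ge
      let π := Ideal.Quotient.mk Q
      have hcm : ∀ {T : Ideal C}, Q ≤ T → (T.map π).comap π = T := fun hT => by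
        rw [Ideal.comap_map_of_surjective _ Ideal.Quotient.mk_surjective, ← RingHom.ker_eq_comap_bot, Ideal.mk_ker,
          sup_eq_left.2 hT]
      have hQm : Q ≤ maximalIdeal C := IsLocalRing.le_maximalIdeal hQ.1.1.ne_top
      haveI : ((maximalIdeal C).map π).IsPrime :=
        Ideal.map_isPrime_of_surjective Ideal.Quotient.mk_surjective (by rw [Ideal.mk_ker]; exact hQm)
      haveI : (Q'.map π).IsPrime :=
        Ideal.map_isPrime_of_surjective Ideal.Quotient.mk_surjective (by rw [Ideal.mk_ker]; exact hlt.le)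
      have hmin : (maximalIdeal C).map π ∈ (Ideal.span {π (algebraMap R C a)}).minimalPrimes := by
        refine ⟨⟨inferInstance, (Ideal.span_singleton_le_iff_mem _).2 (Ideal.mem_map_of_mem _ ?_)⟩, fun T hT hle => ?_⟩
        · exact hmC ▸ Ideal.mem_map_of_mem _ ha
        · haveI := hT.1
          have h1 := hup (T.comap π) inferInstance (by
            intro z hz
            show π z ∈ T
            rw [Ideal.Quotient.eq_zero_iff_mem.2 hz]; exact T.zero_mem) ((Ideal.span_singleton_le_iff_mem T).1 hT.2)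
          rw [← Ideal.map_comap_of_surjective π Ideal.Quotient.mk_surjective T, h1]
      have h1 := Ideal.height_le_one_of_isPrincipal_of_mem_minimalPrimes _ _ hmin
      have hlt1 : (⊥ : Ideal (C ⧸ Q)) < Q'.map π := bot_lt_iff_ne_bot.2 fun e => hlt.not_ge (by
        have := hcm hlt.le
        rw [e, ← RingHom.ker_eq_comap_bot, Ideal.mk_ker] at this
        exact this.ge)
      have hlt2 : Q'.map π < (maximalIdeal C).map π := by
        refine lt_of_le_of_ne (Ideal.map_mono (IsLocalRing.le_maximalIdeal hQ'.ne_top)) fun e => hne ?_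
        rw [← hcm hlt.le, e, hcm hQm]
      have h2 := Ideal.height_strict_mono_of_isPrime hlt2
      haveI : (⊥ : Ideal (C ⧸ Q)).IsPrime := Ideal.isPrime_bot
      have h3 := Ideal.height_strict_mono_of_isPrime hlt1
      have h4 : (Q'.map π).height = 0 := by
        have := lt_of_lt_of_le h2 h1
        exact ENat.lt_one_iff_eq_zero.1 this
      rw [h4] at h3
      exact not_lt_zero' h3
  · intro h
    obtain ⟨y, hy⟩ := hasCurveComponent_iff.1 h
    rw [← hpre] at hy
    obtain ⟨V, ⟨hV, hVe⟩, -⟩ := hbij _ hy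
    refine hasCurveComponent_iff.2 ⟨PrimeSpectrum.comap (algebraMap R C) y, ?_⟩
    have hV1 : V = {PrimeSpectrum.comap (algebraMap R C) y} := by
      refine Set.eq_singleton_iff_unique_mem.2 ⟨?_, fun x hx => ?_⟩
      · rw [← Set.mem_preimage, hVe]; rfl
      · obtain ⟨z, rfl⟩ := PrimeSpectrum.comap_surjective_of_faithfullyFlat (B := C) x
        rw [show z = y from Set.mem_singleton_iff.1 (hVe ▸ hx : z ∈ ({y} : Set (PrimeSpectrum C)))]
    exact hV1 ▸ hV

/-- Local rings with the same truncations have the same one-dimensional components. -/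
theorem hasCurveComponent_iff_of_bijective {R S : Type u} [CommRing R] [IsNoetherianRing R] [HenselianLocalRing R]
    [CommRing S] [IsNoetherianRing S] [HenselianLocalRing S] (h : R →+* S)
    (hmap : (maximalIdeal R).map h = maximalIdeal S)
    (hinj : ∀ n r, h r ∈ maximalIdeal S ^ n → r ∈ maximalIdeal R ^ n)
    (hsurj : ∀ n s, ∃ r, s - h r ∈ maximalIdeal S ^ n) :
    HasCurveComponent R ↔ HasCurveComponent S := by
  let C := AdicCompletion (maximalIdeal S) S
  have hfg : (maximalIdeal S).FG := IsNoetherian.noetherian _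
  haveI : IsLocalRing C := AdicCompletion.isLocalRing_of_fg hfg
  have hmC : maximalIdeal C = (maximalIdeal S).map (algebraMap S C) := AdicCompletion.maximalIdeal_eq_map_of_fg hfg
  let f : R →+* C := (algebraMap S C).comp h
  have hf : (maximalIdeal R).map f = maximalIdeal C := by rw [← Ideal.map_map, hmap, hmC]
  haveI : IsAdicComplete (maximalIdeal C) C := AdicCompletion.isAdicComplete_of_fg hfg
  haveI : IsAdicComplete ((maximalIdeal R).map f) C := hf.symm ▸ inferInstance
  have hevC : ∀ n z, z ∈ maximalIdeal C ^ n ↔ AdicCompletion.evalₐ (maximalIdeal S) n z = 0 := by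
    intro n z
    rw [hmC, ← Ideal.map_pow]
    refine ⟨fun hz => ?_, mem_map_pow_of_eval_eq_zero _ hfg n⟩
    refine (Ideal.map_le_iff_le_comap.2 (fun s hs => ?_) :
      ((maximalIdeal S) ^ n).map (algebraMap S C) ≤ RingHom.ker (AdicCompletion.evalₐ (maximalIdeal S) n).toRingHom) hz
    show AdicCompletion.evalₐ (maximalIdeal S) n (algebraMap S C s) = 0
    rw [eval_algebraMap, Ideal.Quotient.eq_zero_iff_mem]; exact hs
  obtain ⟨e, -⟩ := ConormalAlgz.exists_equiv (maximalIdeal R) f (fun n c => by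
    obtain ⟨s, hs⟩ := Ideal.Quotient.mk_surjective (AdicCompletion.evalₐ (maximalIdeal S) n c)
    obtain ⟨r, hr⟩ := hsurj n s
    refine ⟨r, ?_⟩
    rw [hf, hevC, map_sub, ← hs, RingHom.comp_apply, eval_algebraMap, ← map_sub]
    exact Ideal.Quotient.eq_zero_iff_mem.2 hr) (fun n r hr => by
    rw [hf, hevC, RingHom.comp_apply, eval_algebraMap, Ideal.Quotient.eq_zero_iff_mem] at hr
    exact hinj n r hr)
  rw [hasCurveComponent_completion_iff (R := R), hasCurveComponent_completion_iff (R := S)]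
  exact ⟨HasCurveComponent.of_ringEquiv e.symm, HasCurveComponent.of_ringEquiv e⟩

/-- Components of a quotient. -/
theorem hasCurveComponent_quotient_iff {R : Type u} [CommRing R] (J : Ideal R) :
    HasCurveComponent (R ⧸ J) ↔ ∃ P ∈ J.minimalPrimes, ringKrullDim (R ⧸ P) = 1 := by
  have key : ∀ P : Ideal R, J ≤ P →
      ringKrullDim ((R ⧸ J) ⧸ P.map (Ideal.Quotient.mk J)) = ringKrullDim (R ⧸ P) := fun P hP =>
    ringKrullDim_eq_of_ringEquiv (DoubleQuot.quotQuotEquivQuotOfLE hP)
  constructor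
  · rintro ⟨P, hP, hd⟩
    have hP' : P.comap (Ideal.Quotient.mk J) ∈ J.minimalPrimes := by
      rw [Ideal.minimalPrimes_eq_comap]
      exact ⟨P, hP, rfl⟩
    refine ⟨_, hP', ?_⟩
    rw [← key _ hP'.1.2, Ideal.map_comap_of_surjective _ Ideal.Quotient.mk_surjective]
    exact hd
  · rintro ⟨P, hP, hd⟩
    have hP' := hP
    rw [Ideal.minimalPrimes_eq_comap] at hP'
    obtain ⟨Q, hQ, rfl⟩ := hP'
    exact ⟨Q, hQ, by rw [← hd, ← key _ hP.1.2, Ideal.map_comap_of_surjective _ Ideal.Quotient.mk_surjective]⟩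

end Groth.Agent.Rig7
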