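import Mathlib

/-! Derived completeness with respect to elements, formulated by recursions. -/

set_option autoImplicit false
universe u

namespace Groth.Agent.Rig7

variable {B : Type u} [CommRing B]

/-- Every recursion `x n = a n + f * x (n + 1)` has exactly one solution. -/
def DC (f : B) : Prop :=
  ∀ a : ℕ → B, ∃! x : ℕ → B, ∀ n, x n = a n + f * x (n + 1)

theorem DC.eq_zero {f : B} (hf : DC f) {x : ℕ → B} (hx : ∀ n, x n = f * x (n + 1)) : x = 0 :=
  (hf 0).unique (fun n => by simpa using hx n) (fun n => by simp)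

theorem dc_of_isAdicComplete (f : B) [IsAdicComplete (Ideal.span {f}) B] : DC f := by
  have hmem : ∀ (n : ℕ) (y : B), y ∈ (Ideal.span {f} ^ n • ⊤ : Submodule B B) ↔ ∃ c, y = f ^ n * c := by
    intro n y
    rw [smul_eq_mul, Ideal.mul_top, Ideal.span_singleton_pow, Ideal.mem_span_singleton]
    exact Iff.rfl
  intro a
  have hex : ∀ n, ∃ x : B, ∀ N, x - ∑ i ∈ Finset.range N, f ^ i * a (n + i) ∈ (Ideal.span {f} ^ N • ⊤ : Submodule B B) := by
    intro n
    have hc : ∀ {N M : ℕ}, N ≤ M → ∑ i ∈ Finset.range N, f ^ i * a (n + i) ≡ ∑ i ∈ Finset.range M, f ^ i * a (n + i)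
        [SMOD (Ideal.span {f} ^ N • ⊤ : Submodule B B)] := by
      intro N M hNM
      rw [SModEq.sub_mem, ← neg_mem_iff, neg_sub, Finset.sum_range_sub_sum_range hNM]
      refine sum_mem fun i hi => (hmem _ _).2 ⟨f ^ (i - N) * a (n + i), ?_⟩
      simp only [Finset.mem_filter] at hi
      rw [← mul_assoc, ← pow_add, Nat.add_sub_cancel' hi.2]
    obtain ⟨L, hL⟩ := IsPrecomplete.prec (inferInstance : IsPrecomplete (Ideal.span {f}) B) hc
    exact ⟨L, fun N => by have := hL N; rw [SModEq.sub_mem] at this; rw [← neg_mem_iff, neg_sub]; exact this⟩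
  choose x hx using hex
  refine ⟨x, fun n => sub_eq_zero.1 (IsHausdorff.haus (inferInstance : IsHausdorff (Ideal.span {f}) B) _ fun N => ?_), ?_⟩
  · rw [SModEq.zero]
    obtain ⟨c, hc⟩ := (hmem _ _).1 (hx n (N + 1))
    obtain ⟨d, hd⟩ := (hmem _ _).1 (hx (n + 1) N)
    refine (hmem _ _).2 ⟨f * c - f * d, ?_⟩
    rw [Finset.sum_range_succ'] at hc
    have e : ∑ k ∈ Finset.range N, f ^ (k + 1) * a (n + (k + 1)) = f * ∑ k ∈ Finset.range N, f ^ k * a (n + 1 + k) := by
      rw [Finset.mul_sum]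
      refine Finset.sum_congr rfl fun k _ => ?_
      rw [show n + (k + 1) = n + 1 + k by omega]
      ring
    rw [e, pow_zero, one_mul, Nat.add_zero, pow_succ] at hc
    linear_combination hc - f * hd
  · intro y hy
    funext n
    refine sub_eq_zero.1 (IsHausdorff.haus (inferInstance : IsHausdorff (Ideal.span {f}) B) _ fun N => ?_)
    rw [SModEq.zero]
    obtain ⟨c, hc⟩ := (hmem _ _).1 (hx n N)
    refine (hmem _ _).2 ⟨y (n + N) - c, ?_⟩
    have key : ∀ N, y n = (∑ i ∈ Finset.range N, f ^ i * a (n + i)) + f ^ N * y (n + N) := by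
      intro N
      induction N with
      | zero => simp
      | succ N ih => rw [Finset.sum_range_succ, ih, hy (n + N), ← Nat.add_assoc]; ring
    linear_combination key N - hc

theorem dc_quotient {f : B} (hf : DC f) (g : B) : DC (Ideal.Quotient.mk (Ideal.span {g}) f) := by
  intro a
  choose a' ha' using fun n => Ideal.Quotient.mk_surjective (a n)
  obtain ⟨x, hx, -⟩ := hf a'
  refine ⟨fun n => Ideal.Quotient.mk _ (x n), fun n => ?_, fun y hy => ?_⟩
  · rw [← ha', ← map_mul, ← map_add, ← hx]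
  · choose y' hy' using fun n => Ideal.Quotient.mk_surjective (y n)
    have h1 : ∀ n, ∃ c, (y' n - x n) - f * (y' (n + 1) - x (n + 1)) = g * c := by
      intro n
      refine Ideal.mem_span_singleton.1 (Ideal.Quotient.eq_zero_iff_mem.1 ?_)
      have h2 := congrArg (Ideal.Quotient.mk (Ideal.span {g})) (hx n)
      rw [map_add, map_mul] at h2
      simp only [map_sub, map_mul, hy']
      rw [hy n, h2, ← ha' n]
      ring
    choose c hc using h1
    obtain ⟨b, hb, -⟩ := hf c
    have h0 := hf.eq_zero (x := fun n => (y' n - x n) - g * b n) fun n => by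
      linear_combination hc n - g * hb n
    funext n
    rw [← hy']
    refine Ideal.Quotient.eq.2 (Ideal.mem_span_singleton.2 ⟨b n, sub_eq_zero.1 (congrFun h0 n)⟩)

theorem dc_adicCompletion (g : B) {f : B}
    (hf : ∀ n, DC (Ideal.Quotient.mk (Ideal.span {g} ^ n) f)) :
    DC (algebraMap B (AdicCompletion (Ideal.span {g}) B) f) := by
  let J : Ideal B := Ideal.span {g}
  intro a
  choose x hx hxu using fun k => hf k (fun n => AdicCompletion.evalₐ J k (a n))
  have hev : ∀ (k : ℕ) (z : B), AdicCompletion.evalₐ J k (algebraMap B (AdicCompletion J B) z) =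
      Ideal.Quotient.mk (J ^ k) z := fun k z => AlgHom.commutes _ z
  have hfactor : ∀ {k l : ℕ} (hkl : k ≤ l) (z : AdicCompletion J B),
      Ideal.Quotient.factor (Ideal.pow_le_pow_right hkl) (AdicCompletion.evalₐ J l z) = AdicCompletion.evalₐ J k z := by
    intro k l hkl z
    obtain ⟨z, rfl⟩ := AdicCompletion.mk_surjective J B z
    rw [AdicCompletion.evalₐ_mk, AdicCompletion.evalₐ_mk, Ideal.Quotient.factor_mk]
    refine Ideal.Quotient.eq.2 ?_
    have := (z.2 hkl).symm
    rwa [SModEq.sub_mem, smul_eq_mul, Ideal.mul_top] at this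
  have hcomp : ∀ {k l : ℕ} (hkl : k ≤ l) (n : ℕ), Ideal.Quotient.factor (Ideal.pow_le_pow_right hkl) (x l n) = x k n := by
    intro k l hkl n
    refine congrFun (hxu k (fun n => Ideal.Quotient.factor (Ideal.pow_le_pow_right hkl) (x l n)) fun n => ?_) n
    show Ideal.Quotient.factor (Ideal.pow_le_pow_right hkl) (x l n) = _
    rw [hx l n, map_add, map_mul, hfactor hkl, Ideal.Quotient.factor_mk]
  choose r hr using fun n k => Ideal.Quotient.mk_surjective (x k n)
  let X : ℕ → AdicCompletion J B := fun n => AdicCompletion.mk J B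
    ⟨fun k => r n k, fun {k l} hkl => by
      rw [SModEq.sub_mem, smul_eq_mul, Ideal.mul_top, ← Ideal.Quotient.eq, hr, ← hcomp hkl n, ← hr n l,
        Ideal.Quotient.factor_mk]⟩
  have hX : ∀ k n, AdicCompletion.evalₐ J k (X n) = x k n := fun k n => by
    rw [AdicCompletion.evalₐ_mk]; exact hr n k
  refine ⟨X, fun n => AdicCompletion.ext_evalₐ fun k => ?_, fun y hy => funext fun n => AdicCompletion.ext_evalₐ fun k => ?_⟩
  · rw [map_add, map_mul, hX, hX, hev]; exact hx k n
  · rw [hX]
    refine congrFun (hxu k (fun n => AdicCompletion.evalₐ J k (y n)) fun n => ?_) n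
    show AdicCompletion.evalₐ J k (y n) = _
    rw [hy n, map_add, map_mul, hev]

theorem dc_map_pow_quotient {f : B} (hf : DC f) (g : B) (n : ℕ) :
    DC (Ideal.Quotient.mk (Ideal.span {g} ^ n) f) := by
  rw [Ideal.span_singleton_pow]
  exact dc_quotient hf _

/-- For one element the separatedness kernel squares to zero. -/
theorem mul_eq_zero_of_forall_mem {f : B} (hf : DC f) {a b : B} (ha : ∀ n, a ∈ Ideal.span {f ^ n})
    (hb : ∀ n, b ∈ Ideal.span {f ^ n}) : a * b = 0 := by
  choose a' ha' using fun n => Ideal.mem_span_singleton.1 (ha n)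
  choose b' hb' using fun n => Ideal.mem_span_singleton.1 (hb n)
  have h : ∀ n, a' n * b = f * (a' (n + 1) * b) := fun n => by
    have h1 : f ^ n * a' n = f ^ n * (f * a' (n + 1)) := by rw [← ha' n, ← mul_assoc, ← pow_succ, ← ha' (n + 1)]
    rw [hb' n]
    linear_combination b' n * h1
  have := congrFun (hf.eq_zero h) 0
  rw [ha' 0, pow_zero, one_mul]
  exact this

/-- The separatedness kernel for several elements is nilpotent. -/
theorem pow_eq_zero_of_forall_mem : ∀ (r : ℕ) {B : Type u} [CommRing B] (fs : Fin r → B), (∀ i, DC (fs i)) →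
    ∀ a : B, (∀ n, a ∈ Ideal.span (Set.range fun i => fs i ^ n)) → a ^ 2 ^ r = 0
  | 0, B, _, fs, _, a, ha => by
    have h := ha 0
    rw [Set.range_eq_empty, Ideal.span_empty, Ideal.mem_bot] at h
    simp [h]
  | r + 1, B, _, fs, hfs, a, ha => by
    have h : ∀ n, a ^ 2 ^ r ∈ Ideal.span {fs (Fin.last r) ^ n} := by
      intro n
      rw [← Ideal.Quotient.eq_zero_iff_mem, map_pow]
      refine pow_eq_zero_of_forall_mem r (fun i => Ideal.Quotient.mk _ (fs i.castSucc))
        (fun i => dc_quotient (hfs _) _) _ fun m => ?_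
      have h1 := Ideal.mem_map_of_mem (Ideal.Quotient.mk (Ideal.span {fs (Fin.last r) ^ n})) (ha (max m n))
      rw [Ideal.map_span, ← Set.range_comp] at h1
      refine (Ideal.span_le.2 ?_) h1
      rintro _ ⟨i, rfl⟩
      show Ideal.Quotient.mk _ (fs i ^ max m n) ∈ _
      induction i using Fin.lastCases with
      | last =>
        rw [Ideal.Quotient.eq_zero_iff_mem.2 (Ideal.mem_span_singleton.2 (pow_dvd_pow _ (le_max_right m n)))]
        exact Submodule.zero_mem _
      | cast i =>
        rw [map_pow, ← Nat.add_sub_cancel' (le_max_left m n), pow_add]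
        exact Ideal.mul_mem_right _ _ (Ideal.subset_span ⟨i, rfl⟩)
    have := mul_eq_zero_of_forall_mem (hfs (Fin.last r)) h h
    rwa [← pow_add, ← two_mul, ← pow_succ'] at this

/-- The separatedness kernel of a finitely generated ideal is nilpotent. -/
theorem isNilpotent_of_forall_mem_pow {r : ℕ} (fs : Fin r → B) (hfs : ∀ i, DC (fs i)) {a : B}
    (ha : ∀ n, a ∈ Ideal.span (Set.range fs) ^ n) : IsNilpotent a := by
  refine ⟨2 ^ r, pow_eq_zero_of_forall_mem r fs hfs a fun n => ?_⟩
  obtain ⟨m, hm⟩ := Ideal.exists_pow_le_of_le_radical_of_fg (I := Ideal.span (Set.range fs))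
    (J := Ideal.span (Set.range fun i => fs i ^ n)) (Ideal.span_le.2 (by
      rintro _ ⟨i, rfl⟩; exact ⟨n, Ideal.subset_span ⟨i, rfl⟩⟩))
    (Submodule.fg_span (Set.finite_range fs))
  exact hm (ha m)

theorem sup_pow_le (I J : Ideal B) : ∀ n, (I ⊔ J) ^ (n + 1) ≤ I * (I ⊔ J) ^ n ⊔ J ^ (n + 1)
  | 0 => by simp
  | n + 1 => by
    calc (I ⊔ J) ^ (n + 2) = (I ⊔ J) * (I ⊔ J) ^ (n + 1) := pow_succ' _ _
      _ = I * (I ⊔ J) ^ (n + 1) ⊔ J * (I ⊔ J) ^ (n + 1) := Ideal.sup_mul _ _ _
      _ ≤ _ := by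
        refine sup_le le_sup_left ((Ideal.mul_mono_right (sup_pow_le I J n)).trans ?_)
        rw [Ideal.mul_sup, ← pow_succ']
        refine sup_le_sup ?_ le_rfl
        rw [← mul_assoc, mul_comm J I, mul_assoc, pow_succ' (I ⊔ J) n]
        exact Ideal.mul_mono_right (Ideal.mul_mono_left le_sup_right)

/-- Series along a finitely generated ideal converge. -/
theorem exists_sum : ∀ (r : ℕ) (fs : Fin r → B), (∀ i, DC (fs i)) →
    ∀ a : ℕ → B, (∀ n, a n ∈ Ideal.span (Set.range fs) ^ n) →
      ∃ s : B, ∀ n, s - ∑ i ∈ Finset.range n, a i ∈ Ideal.span (Set.range fs) ^ n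
  | 0, fs, _, a, ha => by
    refine ⟨a 0, fun n => ?_⟩
    cases n with
    | zero => simp
    | succ n =>
      have h : ∀ i, a (i + 1) = 0 := fun i => by
        have := ha (i + 1)
        rw [Set.range_eq_empty, Ideal.span_empty, Ideal.bot_pow (Nat.succ_ne_zero i)] at this
        exact this
      rw [Finset.sum_range_succ', Finset.sum_eq_zero fun i _ => h i, zero_add, sub_self]
      exact Submodule.zero_mem _
  | r + 1, fs, hfs, a, ha => by
    let f := fs (Fin.last r)
    let J := Ideal.span (Set.range fs)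
    let J' := Ideal.span (Set.range fun i : Fin r => fs i.castSucc)
    have hJ : J ≤ Ideal.span {f} ⊔ J' := Ideal.span_le.2 (by
      rintro _ ⟨i, rfl⟩
      induction i using Fin.lastCases with
      | last => exact Ideal.mem_sup_left (Ideal.mem_span_singleton_self f)
      | cast i => exact Ideal.mem_sup_right (Ideal.subset_span ⟨i, rfl⟩))
    have hfJ : Ideal.span {f} ≤ J := Ideal.span_mono (Set.singleton_subset_iff.2 ⟨Fin.last r, rfl⟩)
    have hJ' : J' ≤ J := Ideal.span_mono (Set.range_comp_subset_range _ _)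
    -- splitting one sequence
    have hsplit : ∀ a : ℕ → B, (∀ n, a n ∈ J ^ n) → ∃ b c : ℕ → B, (∀ n, b n ∈ J' ^ n) ∧ (∀ n, c n ∈ J ^ n) ∧
        b 0 = a 0 ∧ ∀ n, a (n + 1) = b (n + 1) + f * c n := by
      intro a ha
      have h1 : ∀ n, ∃ b ∈ J' ^ (n + 1), ∃ c ∈ J ^ n, a (n + 1) = b + f * c := fun n => by
        have h2 := sup_pow_le _ _ n ((Ideal.pow_right_mono hJ (n + 1)) (ha (n + 1)))
        obtain ⟨u, hu, b, hb, hub⟩ := Submodule.mem_sup.1 h2
        obtain ⟨c, hc, rfl⟩ := Ideal.mem_span_singleton_mul.1 hu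
        exact ⟨b, hb, c, Ideal.pow_right_mono (sup_le hfJ hJ') n hc, by rw [← hub]; ring⟩
      choose b hb c hc hbc using h1
      refine ⟨fun n => n.casesOn (a 0) b, c, fun n => ?_, hc, rfl, hbc⟩
      cases n with
      | zero => simp
      | succ n => exact hb n
    choose nb nc hnb hnc hn0 hsucc using hsplit
    let seq : ℕ → {a : ℕ → B // ∀ n, a n ∈ J ^ n} := Nat.rec ⟨a, ha⟩ fun _ p => ⟨nc p.1 p.2, hnc p.1 p.2⟩
    let b : ℕ → ℕ → B := fun k => nb (seq k).1 (seq k).2
    have hs : ∀ k, ∃ s, ∀ n, s - ∑ i ∈ Finset.range n, b k i ∈ J' ^ n := fun k =>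
      exists_sum r _ (fun i => hfs _) _ (hnb (seq k).1 (seq k).2)
    choose s hs using hs
    obtain ⟨x, hx, -⟩ := hfs (Fin.last r) s
    refine ⟨x 0, fun n => ?_⟩
    suffices H : ∀ n k, x k - ∑ i ∈ Finset.range n, (seq k).1 i ∈ J ^ n from H n 0
    intro n
    induction n with
    | zero => simp
    | succ n ih =>
      intro k
      have h1 := Ideal.pow_right_mono hJ' (n + 1) (hs k (n + 1))
      have h2 : f * (x (k + 1) - ∑ i ∈ Finset.range n, (seq (k + 1)).1 i) ∈ J ^ (n + 1) := by
        rw [pow_succ']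
        exact Ideal.mul_mem_mul (hfJ (Ideal.mem_span_singleton_self f)) (ih (k + 1))
      have e : x k - ∑ i ∈ Finset.range (n + 1), (seq k).1 i =
          (s k - ∑ i ∈ Finset.range (n + 1), b k i) + f * (x (k + 1) - ∑ i ∈ Finset.range n, (seq (k + 1)).1 i) := by
        have h3 : ∀ i, (seq k).1 (i + 1) = b k (i + 1) + f * (seq (k + 1)).1 i := hsucc (seq k).1 (seq k).2
        rw [hx k, Finset.sum_range_succ' _ n, Finset.sum_range_succ' _ n, Finset.sum_congr rfl fun i _ => h3 i,
          Finset.sum_add_distrib, ← Finset.mul_sum, show b k 0 = (seq k).1 0 from hn0 (seq k).1 (seq k).2]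
        ring
      rw [e]
      exact add_mem h1 h2

/-- Surjectivity onto the classical completion. -/
theorem exists_forall_sub_mem {r : ℕ} (fs : Fin r → B) (hfs : ∀ i, DC (fs i)) (y : ℕ → B)
    (hy : ∀ n, y (n + 1) - y n ∈ Ideal.span (Set.range fs) ^ n) :
    ∃ s, ∀ n, s - y n ∈ Ideal.span (Set.range fs) ^ n := by
  obtain ⟨s, hs⟩ := exists_sum r fs hfs (fun n => y (n + 1) - y n) hy
  refine ⟨s + y 0, fun n => ?_⟩
  have := hs n
  rw [Finset.sum_range_sub] at this
  convert this using 1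
  ring

end Groth.Agent.Rig7
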