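import Groth.Agent.IdemAway.Basic
import Groth.Agent.Hensel.PairBasic
import Mathlib

/-! Clopen subsets and completion along one element. -/

set_option autoImplicit false
universe u

namespace Groth.Agent.Rig7

open PrimeSpectrum Topology

variable {A B C : Type u} [CommRing A] [CommRing B] [CommRing C]

/-- `V` is clopen in the open set `U`. -/
def RelClopen {X : Type u} [TopologicalSpace X] (U V : Set X) : Prop :=
  V ⊆ U ∧ IsOpen V ∧ IsOpen (U \ V)

/-- The pullback of clopen subsets is bijective. -/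
def ClopBij (φ : A →+* B) (U : Set (PrimeSpectrum A)) : Prop :=
  ∀ W, RelClopen (PrimeSpectrum.comap φ ⁻¹' U) W →
    ∃! V, RelClopen U V ∧ PrimeSpectrum.comap φ ⁻¹' V = W

theorem RelClopen.preimage {φ : A →+* B} {U V : Set (PrimeSpectrum A)} (h : RelClopen U V) :
    RelClopen (PrimeSpectrum.comap φ ⁻¹' U) (PrimeSpectrum.comap φ ⁻¹' V) :=
  ⟨Set.preimage_mono h.1, h.2.1.preimage (PrimeSpectrum.continuous_comap φ),
    h.2.2.preimage (PrimeSpectrum.continuous_comap φ)⟩

theorem ClopBij.comp {φ : A →+* B} {ψ : B →+* C} {U : Set (PrimeSpectrum A)} (h1 : ClopBij φ U)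
    (h2 : ClopBij ψ (PrimeSpectrum.comap φ ⁻¹' U)) : ClopBij (ψ.comp φ) U := by
  intro W hW
  rw [PrimeSpectrum.comap_comp] at hW ⊢
  obtain ⟨V', ⟨hV', rfl⟩, hu'⟩ := h2 W hW
  obtain ⟨V, ⟨hV, rfl⟩, hu⟩ := h1 V' hV'
  exact ⟨V, ⟨hV, rfl⟩, fun V₁ ⟨hV₁, e⟩ => hu V₁ ⟨hV₁, hu' _ ⟨hV₁.preimage, e⟩⟩⟩

theorem clopBij_of_homeomorph {φ : A →+* B} (hsurj : Function.Surjective φ)
    (hnil : ∀ x, φ x = 0 → IsNilpotent x) (U : Set (PrimeSpectrum A)) : ClopBij φ U := by
  have hb : Function.Bijective (PrimeSpectrum.comap φ) :=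
    ⟨PrimeSpectrum.comap_injective_of_surjective φ hsurj, fun x => by
      have hk : RingHom.ker φ ≤ x.asIdeal := fun a ha => by
        obtain ⟨n, hn⟩ := hnil a ha
        exact x.2.mem_of_pow_mem n (hn ▸ x.asIdeal.zero_mem)
      exact ⟨⟨x.asIdeal.map φ, Ideal.map_isPrime_of_surjective hsurj hk⟩, PrimeSpectrum.ext (by
        show (x.asIdeal.map φ).comap φ = x.asIdeal
        rw [Ideal.comap_map_of_surjective φ hsurj, ← RingHom.ker_eq_comap_bot, sup_eq_left.2 hk])⟩⟩
  let e : PrimeSpectrum B ≃ₜ PrimeSpectrum A := (Equiv.ofBijective _ hb).toHomeomorphOfIsInducing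
    (PrimeSpectrum.isClosedEmbedding_comap_of_surjective B φ hsurj).isInducing
  have he : PrimeSpectrum.comap φ = e := rfl
  intro W hW
  rw [he] at hW ⊢
  refine ⟨e '' W, ⟨⟨?_, e.isOpenMap _ hW.2.1, ?_⟩, e.injective.preimage_image W⟩, ?_⟩
  · rintro _ ⟨x, hx, rfl⟩; exact hW.1 hx
  · convert e.isOpenMap _ hW.2.2 using 1
    rw [Set.image_diff e.injective, Set.image_preimage_eq _ e.surjective]
  · rintro V ⟨-, rfl⟩
    exact (Set.image_preimage_eq _ e.surjective).symm

variable (φ : A →+* B) (f : A)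

section
variable (hinj : ∀ (M : ℕ) x, φ x ∈ Ideal.span {φ f ^ M} → x ∈ Ideal.span {f ^ M})
  (hsurj : ∀ (M : ℕ) s, ∃ a, s - φ a ∈ Ideal.span {φ f ^ M})

include hinj hsurj in
theorem exists_over (y : PrimeSpectrum A) (hy : f ∈ y.asIdeal) :
    ∃! M : PrimeSpectrum B, φ f ∈ M.asIdeal ∧ PrimeSpectrum.comap φ M = y := by
  have hf1 : (Ideal.span {f}).map φ = Ideal.span {φ f} := by rw [Ideal.map_span, Set.image_singleton]
  let ε : (A ⧸ Ideal.span {f}) →+* B ⧸ Ideal.span {φ f} :=
    Ideal.quotientMap (Ideal.span {φ f}) φ (Ideal.map_le_iff_le_comap.1 hf1.le)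
  have hε : Function.Bijective ε := by
    refine ⟨(injective_iff_map_eq_zero ε).2 fun z hz => ?_, fun z => ?_⟩
    · obtain ⟨a, rfl⟩ := Ideal.Quotient.mk_surjective z
      rw [Ideal.quotientMap_mk, Ideal.Quotient.eq_zero_iff_mem] at hz
      have := hinj 1 a (by rwa [pow_one])
      rw [pow_one] at this
      exact Ideal.Quotient.eq_zero_iff_mem.2 this
    · obtain ⟨s, rfl⟩ := Ideal.Quotient.mk_surjective z
      obtain ⟨a, ha⟩ := hsurj 1 s
      rw [pow_one] at ha
      exact ⟨Ideal.Quotient.mk _ a, (Ideal.Quotient.eq.2 ha).symm⟩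
  let e := RingEquiv.ofBijective ε hε
  let π : B →+* A ⧸ Ideal.span {f} := e.symm.toRingHom.comp (Ideal.Quotient.mk _)
  have hπ : Function.Surjective π := e.symm.surjective.comp Ideal.Quotient.mk_surjective
  have hπφ : π.comp φ = Ideal.Quotient.mk _ := RingHom.ext fun a => (RingEquiv.symm_apply_eq e).2 rfl
  have hπf : π (φ f) = 0 := by
    have := RingHom.congr_fun hπφ f
    rw [RingHom.comp_apply] at this
    rw [this, Ideal.Quotient.eq_zero_iff_mem]; exact Ideal.mem_span_singleton_self f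
  have hfy : RingHom.ker (Ideal.Quotient.mk (Ideal.span {f})) ≤ y.asIdeal := by
    rw [Ideal.mk_ker]; exact (Ideal.span_singleton_le_iff_mem _).2 hy
  let ybar : PrimeSpectrum (A ⧸ Ideal.span {f}) :=
    ⟨y.asIdeal.map (Ideal.Quotient.mk _), Ideal.map_isPrime_of_surjective Ideal.Quotient.mk_surjective hfy⟩
  have hybar : PrimeSpectrum.comap (Ideal.Quotient.mk _) ybar = y := PrimeSpectrum.ext (by
    show (y.asIdeal.map _).comap _ = _
    rw [Ideal.comap_map_of_surjective _ Ideal.Quotient.mk_surjective, ← RingHom.ker_eq_comap_bot, sup_eq_left.2 hfy])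
  refine ⟨PrimeSpectrum.comap π ybar, ⟨?_, ?_⟩, fun M ⟨hMf, hMy⟩ => ?_⟩
  · show π (φ f) ∈ ybar.asIdeal
    rw [hπf]; exact Ideal.zero_mem _
  · rw [← PrimeSpectrum.comap_comp_apply, hπφ, hybar]
  · have hk : RingHom.ker π ≤ M.asIdeal := fun b hb => by
      have h1 : Ideal.Quotient.mk (Ideal.span {φ f}) b = 0 := e.symm.injective (hb.trans (map_zero _).symm)
      exact (Ideal.span_singleton_le_iff_mem _).2 hMf (Ideal.Quotient.eq_zero_iff_mem.1 h1)
    let Mbar : PrimeSpectrum (A ⧸ Ideal.span {f}) := ⟨M.asIdeal.map π, Ideal.map_isPrime_of_surjective hπ hk⟩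
    have hMbar : PrimeSpectrum.comap π Mbar = M := PrimeSpectrum.ext (by
      show (M.asIdeal.map _).comap _ = _
      rw [Ideal.comap_map_of_surjective _ hπ, ← RingHom.ker_eq_comap_bot, sup_eq_left.2 hk])
    rw [← hMbar]
    refine congrArg _ (PrimeSpectrum.comap_injective_of_surjective _ Ideal.Quotient.mk_surjective ?_)
    rw [hybar, ← hπφ, PrimeSpectrum.comap_comp_apply, hMbar, hMy]

omit hsurj in
/-- The largest prime below `f` in a valuation ring. -/
theorem isPrime_iInf_pow {R : Type u} [CommRing R] [IsDomain R] [ValuationRing R] (g : R) (hg : ¬ IsUnit g) :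
    (⨅ n : ℕ, Ideal.span {g ^ n}).IsPrime := by
  refine ⟨(Ideal.ne_top_iff_one _).2 fun h => hg ?_, fun {a b} hab => ?_⟩
  · have h1 := (Ideal.mem_iInf.1 h) 1
    rw [pow_one, Ideal.mem_span_singleton] at h1
    exact isUnit_of_dvd_one h1
  · by_contra! hc
    rw [Ideal.mem_iInf, Ideal.mem_iInf] at hc
    obtain ⟨⟨n, hn⟩, m, hm⟩ := And.intro (not_forall.1 hc.1) (not_forall.1 hc.2)
    rw [Ideal.mem_span_singleton] at hn hm
    obtain ⟨c, hc'⟩ := (ValuationRing.dvd_total a (g ^ n)).resolve_right hn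
    obtain ⟨d, hd⟩ := (ValuationRing.dvd_total b (g ^ m)).resolve_right hm
    obtain ⟨w, hw⟩ := Ideal.mem_span_singleton.1 ((Ideal.mem_iInf.1 hab) (n + m + 1))
    have hg0 : g ≠ 0 := fun h => by
      rcases Nat.eq_zero_or_pos n with rfl | hn'
      · exact hn (by rw [pow_zero]; exact one_dvd _)
      · have hab0 : a * b = 0 := by rw [hw, h, zero_pow (by omega), zero_mul]
        rcases mul_eq_zero.1 hab0 with h0 | h0
        · exact hn (h0 ▸ dvd_zero _)
        · exact hm (h0 ▸ dvd_zero _)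
    have h2 : g ^ (n + m) * 1 = g ^ (n + m) * (g * w * (c * d)) := by
      rw [mul_one]
      calc g ^ (n + m) = (a * c) * (b * d) := by rw [pow_add, hc', hd]
        _ = (a * b) * (c * d) := by ring
        _ = g ^ (n + m) * (g * w * (c * d)) := by rw [hw, pow_succ]; ring
    exact hg (isUnit_of_dvd_one ⟨w * (c * d), by rw [← mul_assoc]; exact mul_left_cancel₀ (pow_ne_zero _ hg0) h2⟩)

include hinj hsurj in
/-- A specialisation from outside `V(f)` into `V(f)` lifts, after moving the generic point. -/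
theorem exists_lift_pair (x y : PrimeSpectrum A) (hxy : x.asIdeal ≤ y.asIdeal) (hx : f ∉ x.asIdeal) (hy : f ∈ y.asIdeal) :
    ∃ P M : PrimeSpectrum B, P.asIdeal ≤ M.asIdeal ∧ φ f ∉ P.asIdeal ∧ φ f ∈ M.asIdeal ∧
      PrimeSpectrum.comap φ M = y ∧ x.asIdeal ≤ (PrimeSpectrum.comap φ P).asIdeal := by
  let K := FractionRing (A ⧸ x.asIdeal)
  let q0 : Ideal (A ⧸ x.asIdeal) := y.asIdeal.map (Ideal.Quotient.mk _)
  haveI : q0.IsPrime := Ideal.map_isPrime_of_surjective Ideal.Quotient.mk_surjective (by rw [Ideal.mk_ker]; exact hxy)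
  let L := Localization.AtPrime q0
  let j : L →+* K := IsLocalization.lift (M := q0.primeCompl) (g := algebraMap (A ⧸ x.asIdeal) K) fun s => by
    refine isUnit_iff_ne_zero.2 fun h => s.2 ?_
    rw [IsFractionRing.injective (A ⧸ x.asIdeal) K (h.trans (map_zero _).symm)]
    exact Submodule.zero_mem _
  obtain ⟨V₀, hV₀, hloc⟩ := IsLocalRing.exists_factor_valuationRing j
  let ι : A →+* V₀ := (j.codRestrict V₀.toSubring hV₀).comp
    ((algebraMap (A ⧸ x.asIdeal) L).comp (Ideal.Quotient.mk _))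
  have hιval : ∀ a, (ι a : K) = algebraMap (A ⧸ x.asIdeal) K (Ideal.Quotient.mk _ a) := fun a =>
    IsLocalization.lift_eq _ _
  have hιx : ∀ a ∈ x.asIdeal, ι a = 0 := fun a ha => Subtype.ext (by
    rw [hιval, Ideal.Quotient.eq_zero_iff_mem.2 ha, map_zero]; rfl)
  have hιy : ∀ a, IsUnit (ι a) ↔ a ∉ y.asIdeal := by
    intro a
    constructor
    · intro h
      have h1 := hloc.map_nonunit _ h
      rw [RingHom.comp_apply, IsLocalization.AtPrime.isUnit_to_map_iff L q0] at h1
      exact fun ha => h1 (Ideal.mem_map_of_mem _ ha)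
    · intro ha
      refine ((IsLocalization.AtPrime.isUnit_to_map_iff L q0 (Ideal.Quotient.mk x.asIdeal a)).2 fun h => ha ?_).map
        (j.codRestrict V₀.toSubring hV₀)
      have h2 : a ∈ q0.comap (Ideal.Quotient.mk x.asIdeal) := h
      rwa [Ideal.comap_map_of_surjective _ Ideal.Quotient.mk_surjective, ← RingHom.ker_eq_comap_bot, Ideal.mk_ker,
        sup_eq_left.2 hxy] at h2
  have hg : ¬ IsUnit (ι f) := fun h => (hιy f).1 h hy
  let q : Ideal V₀ := ⨅ n : ℕ, Ideal.span {ι f ^ n}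
  haveI : q.IsPrime := isPrime_iInf_pow (ι f) hg
  have hgq : ι f ∉ q := fun h => by
    have h1 := (Ideal.mem_iInf.1 h) 2
    obtain ⟨w, hw⟩ := Ideal.mem_span_singleton.1 h1
    have hne : ι f ≠ 0 := fun h0 => hx (by
      have := congrArg Subtype.val h0
      rw [hιval] at this
      exact Ideal.Quotient.eq_zero_iff_mem.1 (IsFractionRing.injective _ K (this.trans (map_zero _).symm)))
    exact hg (isUnit_of_dvd_one ⟨w, mul_left_cancel₀ hne (by rw [mul_one]; linear_combination hw)⟩)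
  let V := V₀ ⧸ q
  let κ : A →+* V := (Ideal.Quotient.mk q).comp ι
  let I : Ideal V := Ideal.span {κ f}
  let Vh := AdicCompletion I V
  -- the map from `B`
  have hk : ∀ n, Ideal.span {f ^ n} ≤ (I ^ n).comap κ := fun n => by
    rw [Ideal.span_le, Set.singleton_subset_iff]
    show κ (f ^ n) ∈ I ^ n
    rw [map_pow]; exact Ideal.pow_mem_pow (Ideal.mem_span_singleton_self _) n
  have hle : ∀ n, Ideal.span {f ^ n} ≤ (Ideal.span {φ f ^ n}).comap φ := fun n => by
    rw [Ideal.span_le, Set.singleton_subset_iff]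
    show f ^ n ∈ Ideal.comap φ _
    rw [Ideal.mem_comap, map_pow]; exact Ideal.mem_span_singleton_self _
  have hbij : ∀ n, Function.Bijective (Ideal.quotientMap (Ideal.span {φ f ^ n}) φ (hle n)) := fun n => by
    refine ⟨(injective_iff_map_eq_zero _).2 fun z hz => ?_, fun z => ?_⟩
    · obtain ⟨a, rfl⟩ := Ideal.Quotient.mk_surjective z
      rw [Ideal.quotientMap_mk, Ideal.Quotient.eq_zero_iff_mem] at hz
      exact Ideal.Quotient.eq_zero_iff_mem.2 (hinj n a hz)
    · obtain ⟨s, rfl⟩ := Ideal.Quotient.mk_surjective z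
      obtain ⟨a, ha⟩ := hsurj n s
      exact ⟨Ideal.Quotient.mk _ a, (Ideal.Quotient.eq.2 ha).symm⟩
  let hn : ∀ n, B →+* V ⧸ I ^ n := fun n => (Ideal.quotientMap (I ^ n) κ (hk n)).comp
    ((RingEquiv.ofBijective _ (hbij n)).symm.toRingHom.comp (Ideal.Quotient.mk _))
  have hval : ∀ (n : ℕ) (b : B) (a : A), b - φ a ∈ Ideal.span {φ f ^ n} → hn n b = Ideal.Quotient.mk _ (κ a) := by
    intro n b a h
    have e : (RingEquiv.ofBijective _ (hbij n)).symm (Ideal.Quotient.mk _ b) = Ideal.Quotient.mk _ a :=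
      (RingEquiv.symm_apply_eq _).2 (Ideal.Quotient.eq.2 h)
    show Ideal.quotientMap (I ^ n) κ (hk n) ((RingEquiv.ofBijective _ (hbij n)).symm (Ideal.Quotient.mk _ b)) = _
    rw [e]
    rfl
  have hcompat : ∀ {m n : ℕ} (hmn : m ≤ n), (Ideal.Quotient.factorPow I hmn).comp (hn n) = hn m := by
    intro m n hmn
    refine RingHom.ext fun b => ?_
    obtain ⟨a, ha⟩ := hsurj n b
    have ha' : b - φ a ∈ Ideal.span {φ f ^ m} :=
      Ideal.span_singleton_le_span_singleton.2 (pow_dvd_pow _ hmn) ha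
    rw [RingHom.comp_apply, hval n b a ha, hval m b a ha']
    rfl
  let h : B →+* Vh := AdicCompletion.liftRingHom I hn hcompat
  have hhA : h.comp φ = (algebraMap V Vh).comp κ := RingHom.ext fun a => AdicCompletion.ext_evalₐ fun n => by
    rw [RingHom.comp_apply, RingHom.comp_apply, AdicCompletion.evalₐ_liftRingHom, AlgHom.commutes,
      hval n (φ a) a (by rw [sub_self]; exact Submodule.zero_mem _)]
    rfl
  have hsep : ∀ v : V, (∀ n, v ∈ I ^ n) → v = 0 := fun v hv => by
    obtain ⟨w, rfl⟩ := Ideal.Quotient.mk_surjective v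
    rw [Ideal.Quotient.eq_zero_iff_mem, Ideal.mem_iInf]
    intro n
    have h1 := hv n
    rw [show I = (Ideal.span {ι f}).map (Ideal.Quotient.mk q) by
      rw [Ideal.map_span, Set.image_singleton]; rfl, ← Ideal.map_pow, Ideal.span_singleton_pow] at h1
    have h2 : w ∈ ((Ideal.span {ι f ^ n}).map (Ideal.Quotient.mk q)).comap (Ideal.Quotient.mk q) := h1
    rwa [Ideal.comap_map_of_surjective _ Ideal.Quotient.mk_surjective, ← RingHom.ker_eq_comap_bot, Ideal.mk_ker,
      sup_eq_left.2 (iInf_le (fun n => Ideal.span {ι f ^ n}) n)] at h2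
  have hιinj : Function.Injective (algebraMap V Vh) := (injective_iff_map_eq_zero _).2 fun v hv => hsep v fun n => by
    have := congrArg (AdicCompletion.evalₐ I n) hv
    rw [AlgHom.commutes, map_zero] at this
    exact Ideal.Quotient.eq_zero_iff_mem.1 this
  obtain ⟨P', hP', -, hdisj⟩ := Ideal.exists_le_prime_disjoint (⊥ : Ideal Vh) ((nonZeroDivisors V).map (algebraMap V Vh)) (by
    rw [Set.disjoint_left]
    rintro z hz ⟨v, hv, rfl⟩
    exact nonZeroDivisors.ne_zero hv (hιinj ((Ideal.mem_bot.1 hz).trans (map_zero _).symm)))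
  obtain ⟨M', hM', hPM⟩ := P'.exists_le_maximal hP'.ne_top
  have hfg : I.FG := ⟨{κ f}, by simp [I]⟩
  haveI : IsAdicComplete (I.map (algebraMap V Vh)) Vh := (IsAdicComplete.map_algebraMap_iff I Vh).2 (AdicCompletion.isAdicComplete hfg)
  have hfM : algebraMap V Vh (κ f) ∈ M' :=
    ((IsAdicComplete.le_jacobson_bot (I.map (algebraMap V Vh))).trans (sInf_le ⟨bot_le, hM'⟩))
      (Ideal.mem_map_of_mem _ (Ideal.mem_span_singleton_self _))
  -- `M'` restricts to the closed point
  haveI : IsLocalRing V := IsLocalRing.of_surjective' (Ideal.Quotient.mk q) Ideal.Quotient.mk_surjective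
  have hMy : ∀ a, algebraMap V Vh (κ a) ∈ M' ↔ a ∈ y.asIdeal := by
    intro a
    constructor
    · intro ha
      by_contra h'
      have hu : IsUnit (κ a) := ((hιy a).2 h').map (Ideal.Quotient.mk q)
      exact hM'.ne_top (M'.eq_top_of_isUnit_mem ha (hu.map (algebraMap V Vh)))
    · intro ha
      have hI1 : ∀ v : V, v ∈ IsLocalRing.maximalIdeal V → algebraMap V Vh v ∈ M' := by
        intro v hv
        by_contra hvM
        obtain ⟨z, w, hw, hz⟩ := hM'.exists_inv hvM
        obtain ⟨u, hu⟩ := Ideal.Quotient.mk_surjective (AdicCompletion.evalₐ I 1 z)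
        -- modulo `f` everything comes from `V`
        let χ := AdicCompletion.evalₐ I 1
        have hker : ∀ t, χ t = 0 → t ∈ M' := fun t ht => by
          have h1 : t ∈ RingHom.ker (AdicCompletion.evalOneₐ I) := by
            rw [RingHom.mem_ker, ← AdicCompletion.factorₐ_evalₐ_one]
            exact (congrArg (Ideal.Quotient.factor (show I ^ 1 ≤ I by simp)) ht).trans (map_zero _)
          refine (Ideal.map_le_iff_le_comap.2 ?_) ((AdicCompletion.ker_evalOneₐ_eq_map I hfg).le h1)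
          rw [Ideal.span_le, Set.singleton_subset_iff]
          exact hfM
        have h1 : z - algebraMap V Vh u ∈ M' := hker _ (by rw [map_sub, AlgHom.commutes, ← hu]; exact sub_self _)
        have h2 : algebraMap V Vh (1 - u * v) ∈ M' := by
          have := add_mem hw (M'.mul_mem_right (algebraMap V Vh v) h1)
          rw [map_sub, map_one, map_mul]
          convert this using 1
          linear_combination -hz
        have h3 : IsUnit (1 - u * v) := IsLocalRing.isUnit_one_sub_self_of_mem_nonunits _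
          ((IsLocalRing.maximalIdeal V).mul_mem_left u hv)
        exact hM'.ne_top (M'.eq_top_of_isUnit_mem h2 (h3.map _))
      refine hI1 _ fun hu => ?_
      haveI := Ideal.Quotient.mk_surjective.isLocalHom (f := Ideal.Quotient.mk q)
      exact (hιy a).1 (isUnit_of_map_unit (Ideal.Quotient.mk q) _ hu) ha
  haveI := hM'.isPrime
  let P : PrimeSpectrum B := ⟨P'.comap h, Ideal.comap_isPrime h P'⟩
  let M : PrimeSpectrum B := ⟨M'.comap h, Ideal.comap_isPrime h M'⟩
  have hcm : ∀ a, h (φ a) = algebraMap V Vh (κ a) := fun a => RingHom.congr_fun hhA a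
  refine ⟨P, M, Ideal.comap_mono hPM, fun hPf => ?_, ?_, PrimeSpectrum.ext (Ideal.ext fun a => ?_), fun a ha => ?_⟩
  · have h1 : algebraMap V Vh (κ f) ∈ P' := hcm f ▸ hPf
    exact Set.disjoint_left.1 hdisj h1 ⟨κ f, mem_nonZeroDivisors_of_ne_zero fun h0 => hgq (Ideal.Quotient.eq_zero_iff_mem.1 h0), rfl⟩
  · show h (φ f) ∈ M'
    rw [hcm]; exact hfM
  · show h (φ a) ∈ M' ↔ _
    rw [hcm]; exact hMy a
  · show h (φ a) ∈ P'
    rw [hcm, show κ a = 0 by rw [RingHom.comp_apply, hιx a ha, map_zero], map_zero]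
    exact Submodule.zero_mem _

include hinj hsurj in
/-- Completing along one element does not change clopen subsets. -/
theorem clopBij_glue [HenselianRing A (Ideal.span {f})] (hjac : Ideal.span {φ f} ≤ Ideal.jacobson ⊥)
    (U : Set (PrimeSpectrum A)) (hU : IsOpen U) (hUc : IsCompact U)
    (hUf : (basicOpen f : Set (PrimeSpectrum A)) ⊆ U) : ClopBij φ U := by
  classical
  let A' := Localization.Away f
  let B' := Localization.Away (φ f)
  let ψ : A' →+* B' := Localization.awayMap φ f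
  have hψ : ∀ a, ψ (algebraMap A A' a) = algebraMap B B' (φ a) := fun a => by
    simp [ψ, Localization.awayMap, IsLocalization.Away.map, IsLocalization.map_eq]
    rfl
  have hrA : Set.range (PrimeSpectrum.comap (algebraMap A A')) = basicOpen f :=
    PrimeSpectrum.localization_away_comap_range A' f
  have hrB : Set.range (PrimeSpectrum.comap (algebraMap B B')) = basicOpen (φ f) :=
    PrimeSpectrum.localization_away_comap_range B' (φ f)
  have hcA : ∀ x : PrimeSpectrum B', PrimeSpectrum.comap φ (PrimeSpectrum.comap (algebraMap B B') x) =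
      PrimeSpectrum.comap (algebraMap A A') (PrimeSpectrum.comap ψ x) := fun x => by
    rw [← PrimeSpectrum.comap_comp_apply, ← PrimeSpectrum.comap_comp_apply]
    congr 1
    exact (RingHom.ext fun a => (hψ a).symm : (algebraMap B B').comp φ = ψ.comp (algebraMap A A')) ▸ rfl
  -- uniqueness
  have huniq : ∀ V₁ V₂, RelClopen U V₁ → RelClopen U V₂ →
      PrimeSpectrum.comap φ ⁻¹' V₁ = PrimeSpectrum.comap φ ⁻¹' V₂ → V₁ = V₂ := by
    intro V₁ V₂ h₁ h₂ he
    have hclop : ∀ V, RelClopen U V → IsClopen (PrimeSpectrum.comap (algebraMap A A') ⁻¹' V) := fun V hV => by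
      refine ⟨⟨?_⟩, hV.2.1.preimage (PrimeSpectrum.continuous_comap _)⟩
      convert hV.2.2.preimage (PrimeSpectrum.continuous_comap (algebraMap A A')) using 1
      ext x
      exact ⟨fun h => ⟨hUf (hrA ▸ Set.mem_range_self x), h⟩, fun h => h.2⟩
    obtain ⟨e₁, he₁, hV₁⟩ := PrimeSpectrum.isClopen_iff.1 (hclop V₁ h₁)
    obtain ⟨e₂, he₂, hV₂⟩ := PrimeSpectrum.isClopen_iff.1 (hclop V₂ h₂)
    have h12 : e₁ = e₂ := by
      refine IdemAway.eq_of_map_eq (φ := φ) (ψ := ψ) hψ (HenselianRing.jac (I := Ideal.span {f})) hinj he₁ he₂ ?_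
      refine PrimeSpectrum.basicOpen_injOn_isIdempotentElem (he₁.map ψ) (he₂.map ψ) (SetLike.coe_injective ?_)
      have hb : ∀ (V : Set (PrimeSpectrum A)) (e : A'), PrimeSpectrum.comap (algebraMap A A') ⁻¹' V = basicOpen e →
          (basicOpen (ψ e) : Set (PrimeSpectrum B')) =
            PrimeSpectrum.comap (algebraMap B B') ⁻¹' (PrimeSpectrum.comap φ ⁻¹' V) := fun V e hVe => by
        ext x
        rw [Set.mem_preimage, Set.mem_preimage, hcA, ← Set.mem_preimage, hVe]
        rfl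
      rw [hb V₁ e₁ hV₁, hb V₂ e₂ hV₂, he]
    ext x
    by_cases hxf : f ∈ x.asIdeal
    · obtain ⟨M, ⟨-, hM⟩, -⟩ := exists_over φ f hinj hsurj x hxf
      rw [← hM, ← Set.mem_preimage, ← Set.mem_preimage (f := PrimeSpectrum.comap φ), he]
    · obtain ⟨x', rfl⟩ : x ∈ Set.range (PrimeSpectrum.comap (algebraMap A A')) := by rw [hrA]; exact hxf
      rw [← Set.mem_preimage, ← Set.mem_preimage (f := PrimeSpectrum.comap (algebraMap A A')), hV₁, hV₂, h12]
  intro W hW
  obtain ⟨hWU, hWo, hWo'⟩ := hW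
  -- the part off `V(f)`
  have hclopW : IsClopen (PrimeSpectrum.comap (algebraMap B B') ⁻¹' W) := by
    refine ⟨⟨?_⟩, hWo.preimage (PrimeSpectrum.continuous_comap _)⟩
    convert hWo'.preimage (PrimeSpectrum.continuous_comap (algebraMap B B')) using 1
    ext x
    refine ⟨fun h => ⟨hUf ?_, h⟩, fun h => h.2⟩
    rw [hcA]; exact hrA ▸ Set.mem_range_self _
  obtain ⟨e, he, hWe⟩ := PrimeSpectrum.isClopen_iff.1 hclopW
  obtain ⟨e₀, he₀, he₀e⟩ := IdemAway.exists_map_eq (A' := A') (S' := B') (φ := φ) (ψ := ψ) (t := f) hψ hjac hinj hsurj he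
  obtain ⟨k, a, hk⟩ := IsLocalization.Away.surj (S := A') f e₀
  have hmemW : ∀ P : PrimeSpectrum B, φ f ∉ P.asIdeal → (P ∈ W ↔ φ a ∉ P.asIdeal) := by
    intro P hP
    obtain ⟨P', rfl⟩ : P ∈ Set.range (PrimeSpectrum.comap (algebraMap B B')) := by rw [hrB]; exact hP
    rw [← Set.mem_preimage, hWe]
    show e ∉ P'.asIdeal ↔ algebraMap B B' (φ a) ∉ P'.asIdeal
    rw [← hψ a, ← hk, map_mul, he₀e, map_pow, hψ]
    refine not_congr ⟨fun h => Ideal.mul_mem_right _ _ h, fun h => ((P'.2.mem_or_mem h).resolve_right fun h' => hP ?_)⟩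
    exact P'.2.mem_of_pow_mem k h'
  -- `a` only depends on the part where `f` is a unit
  obtain ⟨⟨_, l, rfl⟩, hl⟩ := (IsLocalization.map_eq_zero_iff (Submonoid.powers f) A' (a * a - f ^ k * a)).1 (by
    rw [map_sub, map_mul, map_mul, map_pow, ← hk]
    linear_combination (algebraMap A A' f ^ (2 * k)) * he₀.eq)
  have hgen : ∀ x z : PrimeSpectrum A, x.asIdeal ≤ z.asIdeal → f ∉ z.asIdeal → (a ∉ x.asIdeal ↔ a ∉ z.asIdeal) := by
    intro x z hxz hzf
    refine ⟨fun hax haz => ?_, fun haz hax => haz (hxz hax)⟩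
    have h0 : f ^ l * (a * (a - f ^ k)) ∈ x.asIdeal := by
      rw [show a * (a - f ^ k) = a * a - f ^ k * a by ring]
      rw [show f ^ l * (a * a - f ^ k * a) = 0 from hl]
      exact Submodule.zero_mem _
    have h1 := ((x.2.mem_or_mem h0).resolve_left fun h => hzf (hxz (x.2.mem_of_pow_mem l h)))
    have h2 := hxz ((x.2.mem_or_mem h1).resolve_left hax)
    refine hzf (z.2.mem_of_pow_mem k ?_)
    have := sub_mem haz h2
    rwa [sub_sub_cancel] at this
  -- the part on `V(f)`
  choose b hb using fun s : B => hsurj 1 s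
  have hbM : ∀ (s : B) (M : PrimeSpectrum B), φ f ∈ M.asIdeal → (s ∈ M.asIdeal ↔ b s ∈ (PrimeSpectrum.comap φ M).asIdeal) := by
    intro s M hM
    have h1 : s - φ (b s) ∈ M.asIdeal := by
      have := hb s; rw [pow_one] at this
      exact (Ideal.span_singleton_le_iff_mem _).2 hM this
    show _ ↔ φ (b s) ∈ M.asIdeal
    exact ⟨fun h => by simpa using sub_mem h h1, fun h => by simpa using add_mem h1 h⟩
  -- compactness
  have hUBc : IsCompact (PrimeSpectrum.comap φ ⁻¹' U) := by
    obtain ⟨s, rfl⟩ := PrimeSpectrum.isCompact_isOpen_iff.1 ⟨hUc, hU⟩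
    refine (PrimeSpectrum.isCompact_isOpen_iff.2 ⟨s.image φ, ?_⟩).1
    rw [Finset.coe_image, Set.preimage_compl, PrimeSpectrum.preimage_comap_zeroLocus]
  have hWc : IsCompact W := by
    have : W = (PrimeSpectrum.comap φ ⁻¹' U) \ ((PrimeSpectrum.comap φ ⁻¹' U) \ W) := by
      rw [Set.diff_diff_cancel_left hWU]
    rw [this]
    exact hUBc.diff hWo'
  obtain ⟨S, hWs⟩ := PrimeSpectrum.isCompact_isOpen_iff.1 ⟨hWc, hWo⟩
  let T : Set (PrimeSpectrum A) :=
    ((basicOpen f : Set (PrimeSpectrum A)) ∩ (basicOpen a : Set (PrimeSpectrum A))) ∪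
      ((basicOpen f : Set (PrimeSpectrum A))ᶜ ∩ ⋃ s ∈ S, (basicOpen (b s) : Set (PrimeSpectrum A)))
  let V := U ∩ T
  have hT0 : ∀ (y : PrimeSpectrum A) (M : PrimeSpectrum B), φ f ∈ M.asIdeal → PrimeSpectrum.comap φ M = y →
      (y ∈ T ↔ M ∈ W) := by
    intro y M hM hMy
    have hy : f ∈ y.asIdeal := hMy ▸ hM
    have e1 : y ∈ T ↔ ∃ s ∈ S, b s ∉ y.asIdeal := by
      simp only [T, Set.mem_union, Set.mem_inter_iff, Set.mem_compl_iff, Set.mem_iUnion, exists_prop, SetLike.mem_coe,
        PrimeSpectrum.mem_basicOpen, hy, not_true_eq_false, false_and, false_or, not_false_eq_true, true_and]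
    rw [e1, ← hWs]
    simp only [Set.mem_compl_iff, PrimeSpectrum.mem_zeroLocus, Set.not_subset, Finset.mem_coe, SetLike.mem_coe]
    refine exists_congr fun s => and_congr_right fun _ => not_congr ?_
    rw [hbM s M hM, hMy]
  have hT1 : ∀ x : PrimeSpectrum A, f ∉ x.asIdeal → (x ∈ T ↔ a ∉ x.asIdeal) := fun x hx => by
    simp only [T, Set.mem_union, Set.mem_inter_iff, Set.mem_compl_iff, SetLike.mem_coe, PrimeSpectrum.mem_basicOpen,
      hx, not_false_eq_true, true_and, not_true_eq_false, false_and, or_false]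
  have key : ∀ x y : PrimeSpectrum A, x.asIdeal ≤ y.asIdeal → y ∈ U → (x ∈ T ↔ y ∈ T) := by
    intro x y hxy hyU
    by_cases hy : f ∈ y.asIdeal
    · by_cases hx : f ∈ x.asIdeal
      · obtain ⟨Mx, ⟨hMxf, hMx⟩, -⟩ := exists_over φ f hinj hsurj x hx
        obtain ⟨My, ⟨hMyf, hMy⟩, huy⟩ := exists_over φ f hinj hsurj y hy
        have hle : Mx.asIdeal ≤ My.asIdeal := fun s hs => by
          rw [hbM s My hMyf, hMy]
          rw [hbM s Mx hMxf, hMx] at hs
          exact hxy hs
        rw [hT0 x Mx hMxf hMx, hT0 y My hMyf hMy]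
        constructor
        · intro h
          by_contra h'
          have hmem : My ∈ (PrimeSpectrum.comap φ ⁻¹' U) \ W := ⟨by rw [Set.mem_preimage, hMy]; exact hyU, h'⟩
          exact (hWo'.stableUnderGeneralization ((PrimeSpectrum.le_iff_specializes Mx My).1 hle) hmem).2 h
        · exact hWo.stableUnderGeneralization ((PrimeSpectrum.le_iff_specializes Mx My).1 hle)
      · obtain ⟨P, M, hPM, hPf, hMf, hMy, hxP⟩ := exists_lift_pair φ f hinj hsurj x y hxy hx hy
        rw [hT1 x hx, hT0 y M hMf hMy, hgen x (PrimeSpectrum.comap φ P) hxP hPf]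
        change φ a ∉ P.asIdeal ↔ _
        rw [← hmemW P hPf]
        constructor
        · intro h
          by_contra h'
          have hmem : M ∈ (PrimeSpectrum.comap φ ⁻¹' U) \ W := ⟨by rw [Set.mem_preimage, hMy]; exact hyU, h'⟩
          exact (hWo'.stableUnderGeneralization ((PrimeSpectrum.le_iff_specializes P M).1 hPM) hmem).2 h
        · exact hWo.stableUnderGeneralization ((PrimeSpectrum.le_iff_specializes P M).1 hPM)
    · have hx : f ∉ x.asIdeal := fun h => hy (hxy h)
      rw [hT1 x hx, hT1 y hy, hgen x y hxy hy]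
  have hTc : IsConstructible T := by
    have hb : ∀ g : A, IsConstructible (basicOpen g : Set (PrimeSpectrum A)) :=
      fun g => (PrimeSpectrum.isRetrocompact_basicOpen).isConstructible (basicOpen g).2
    exact ((hb f).inter (hb a)).union ((hb f).compl.inter (IsConstructible.biUnion S.finite_toSet fun s _ => hb (b s)))
  have hUcon : IsConstructible U := (QuasiSeparatedSpace.isRetrocompact_iff_isCompact hU |>.2 hUc).isConstructible hU
  have hVo : IsOpen V := PrimeSpectrum.isOpen_of_stableUnderGeneralization_of_isConstructible (fun y x hxy hy =>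
    ⟨hU.stableUnderGeneralization hxy hy.1, (key x y ((PrimeSpectrum.le_iff_specializes x y).2 hxy) hy.1).2 hy.2⟩) (hUcon.inter hTc)
  have hVo' : IsOpen (U \ V) := by
    rw [show U \ V = U ∩ Tᶜ by ext x; simp [V]]
    exact PrimeSpectrum.isOpen_of_stableUnderGeneralization_of_isConstructible (fun y x hxy hy =>
      ⟨hU.stableUnderGeneralization hxy hy.1,
        fun h => hy.2 ((key x y ((PrimeSpectrum.le_iff_specializes x y).2 hxy) hy.1).1 h)⟩) (hUcon.inter hTc.compl)
  have hpre : PrimeSpectrum.comap φ ⁻¹' V = W := by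
    ext P
    by_cases hP : φ f ∈ P.asIdeal
    · exact ⟨fun h => (hT0 _ P hP rfl).1 h.2, fun h => ⟨hWU h, (hT0 _ P hP rfl).2 h⟩⟩
    · exact ⟨fun h => (hmemW P hP).2 ((hT1 (PrimeSpectrum.comap φ P) hP).1 h.2),
        fun h => ⟨hWU h, (hT1 (PrimeSpectrum.comap φ P) hP).2 ((hmemW P hP).1 h)⟩⟩
  exact ⟨V, ⟨⟨Set.inter_subset_left, hVo, hVo'⟩, hpre⟩,
    fun V₁ ⟨hV₁, hV₁e⟩ => huniq V₁ V hV₁ ⟨Set.inter_subset_left, hVo, hVo'⟩ (hV₁e.trans hpre.symm)⟩

end

end Groth.Agent.Rig7
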