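import Groth.Agent.Rig7.DC
import Groth.Agent.Rig7.Glue
import Groth.Agent.Hensel.HenselizationProps
import Mathlib

/-! Gabber rigidity for clopen subsets. -/

set_option autoImplicit false
universe u

namespace Groth.Agent.Rig7

variable {A : Type u} [CommRing A]

theorem eval_algebraMap {B : Type u} [CommRing B] (I : Ideal B) (n : ℕ) (b : B) :
    AdicCompletion.evalₐ I n (algebraMap B (AdicCompletion I B) b) = Ideal.Quotient.mk (I ^ n) b :=
  AlgHom.commutes _ b

theorem mem_map_pow_of_eval_eq_zero {B : Type u} [CommRing B] (I : Ideal B) (hI : I.FG) (n : ℕ)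
    {x : AdicCompletion I B} (hx : AdicCompletion.evalₐ I n x = 0) :
    x ∈ (I ^ n).map (algebraMap B (AdicCompletion I B)) := by
  have h1 : AdicCompletion.eval I B n x = 0 := by
    obtain ⟨z, rfl⟩ := AdicCompletion.mk_surjective I B x
    rw [AdicCompletion.evalₐ_mk, Ideal.Quotient.eq_zero_iff_mem] at hx
    exact (Submodule.Quotient.mk_eq_zero _).2 (by rwa [smul_eq_mul, Ideal.mul_top])
  have h2 : x ∈ I ^ n • (⊤ : Submodule B (AdicCompletion I B)) := by
    rw [AdicCompletion.pow_smul_top_eq_ker_eval hI]; exact h1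
  rwa [Ideal.smul_top_eq_map] at h2

/-- Successive completions along finitely many elements. -/
theorem exists_chain (I : Ideal A) [HenselianRing A I] (U : Set (PrimeSpectrum A)) (hU : IsOpen U)
    (hUc : IsCompact U) (hUI : ∀ x ∉ U, I ≤ x.asIdeal) :
    ∀ (r : ℕ) (fs : Fin r → A), (∀ i, fs i ∈ I) →
      ∃ (B : Type u) (_ : CommRing B) (φ : A →+* B), HenselianRing B (I.map φ) ∧
        (∀ n a, φ a ∈ (I ^ n).map φ → a ∈ I ^ n) ∧ (∀ n b, ∃ a, b - φ a ∈ (I ^ n).map φ) ∧
        (∀ i, DC (φ (fs i))) ∧ ClopBij φ U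
  | 0, _, _ => ⟨A, inferInstance, RingHom.id A, by rw [Ideal.map_id]; infer_instance,
      fun n a h => by rwa [Ideal.map_id] at h, fun n b => ⟨b, by simp⟩, fun i => i.elim0,
      clopBij_of_homeomorph Function.surjective_id (fun x hx => ⟨1, by simpa using hx⟩) U⟩
  | r + 1, fs, hfs => by
    obtain ⟨B, _, φ, hhens, hinjI, hsurjI, hDC, hclop⟩ :=
      exists_chain I U hU hUc hUI r (fun i => fs i.castSucc) (fun i => hfs _)
    let g := φ (fs (Fin.last r))
    let J : Ideal B := Ideal.span {g}
    let B' := AdicCompletion J B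
    let ι : B →+* B' := algebraMap B B'
    have hJfg : J.FG := ⟨{g}, by simp [J]⟩
    have hgI : g ∈ I.map φ := Ideal.mem_map_of_mem _ (hfs _)
    have hJI : J ≤ I.map φ := (Ideal.span_singleton_le_iff_mem _).2 hgI
    haveI := hhens
    haveI : HenselianRing B J := Hensel.henselianRing_of_le hJI
    haveI hcpl : IsAdicComplete (J.map ι) B' :=
      (IsAdicComplete.map_algebraMap_iff J B').2 (AdicCompletion.isAdicComplete hJfg)
    have hJι : J.map ι = Ideal.span {ι g} := by rw [Ideal.map_span, Set.image_singleton]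
    haveI : IsAdicComplete (Ideal.span {ι g}) B' := hJι ▸ hcpl
    haveI : HenselianRing B' (Ideal.span {ι g}) := inferInstance
    have hinj : ∀ (M : ℕ) x, ι x ∈ Ideal.span {ι g ^ M} → x ∈ Ideal.span {g ^ M} := by
      intro M x hx
      obtain ⟨c, hc⟩ := Ideal.mem_span_singleton.1 hx
      have h1 := congrArg (AdicCompletion.evalₐ J M) hc
      rw [map_mul, map_pow, eval_algebraMap, eval_algebraMap, ← map_pow,
        Ideal.Quotient.eq_zero_iff_mem.2 (Ideal.pow_mem_pow (Ideal.mem_span_singleton_self g) M), zero_mul,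
        Ideal.Quotient.eq_zero_iff_mem, Ideal.span_singleton_pow] at h1
      exact h1
    have hsurj : ∀ (M : ℕ) s, ∃ a, s - ι a ∈ Ideal.span {ι g ^ M} := by
      intro M s
      obtain ⟨a, ha⟩ := Ideal.Quotient.mk_surjective (AdicCompletion.evalₐ J M s)
      refine ⟨a, ?_⟩
      have h1 := mem_map_pow_of_eval_eq_zero J hJfg M (x := s - ι a) (by rw [map_sub, eval_algebraMap, ha, sub_self])
      rwa [Ideal.map_pow, hJι, Ideal.span_singleton_pow] at h1
    let χ : A →+* B' := ι.comp φ
    have hpow : ∀ n, (I ^ n).map χ = ((I ^ n).map φ).map ι := fun n => (Ideal.map_map _ _).symm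
    have hgn : ∀ n, g ^ n ∈ (I ^ n).map φ := fun n => by
      rw [Ideal.map_pow]; exact Ideal.pow_mem_pow hgI n
    refine ⟨B', inferInstance, χ, ?_, fun n a ha => ?_, fun n b => ?_, fun i => ?_, ?_⟩
    · rw [← Ideal.map_map]
      have hle : Ideal.span {ι g} ≤ (I.map φ).map ι := hJι ▸ Ideal.map_mono hJI
      have hsJ : Function.Surjective ((Ideal.Quotient.mk (Ideal.span {ι g})).comp ι) := fun z => by
        obtain ⟨s, rfl⟩ := Ideal.Quotient.mk_surjective z
        obtain ⟨a, ha⟩ := hsurj 1 s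
        rw [pow_one] at ha
        exact ⟨a, (Ideal.Quotient.eq.2 ha).symm⟩
      have hkJ : RingHom.ker ((Ideal.Quotient.mk (Ideal.span {ι g})).comp ι) = J := by
        ext x
        rw [RingHom.mem_ker, RingHom.comp_apply, Ideal.Quotient.eq_zero_iff_mem]
        constructor
        · intro h
          have := hinj 1 x (by rwa [pow_one])
          rwa [pow_one] at this
        · intro h
          exact hJι ▸ Ideal.mem_map_of_mem ι h
      let e : (B ⧸ J) ≃+* B' ⧸ Ideal.span {ι g} :=
        (Ideal.quotEquivOfEq hkJ.symm).trans (RingHom.quotientKerEquivOfSurjective hsJ)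
      haveI : HenselianRing (B ⧸ J) ((I.map φ).map (Ideal.Quotient.mk J)) := Hensel.henselianRing_quotient J _
      haveI : HenselianRing (B' ⧸ Ideal.span {ι g}) (((I.map φ).map ι).map (Ideal.Quotient.mk _)) := by
        have h1 := Hensel.henselianRing_of_ringEquiv e ((I.map φ).map (Ideal.Quotient.mk J))
        rwa [Ideal.map_map, show (e : (B ⧸ J) →+* B' ⧸ Ideal.span {ι g}).comp (Ideal.Quotient.mk J) = (Ideal.Quotient.mk _).comp ι from
          RingHom.ext fun _ => rfl, ← Ideal.map_map] at h1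
      exact Hensel.henselianRing_trans hle
    · rw [hpow] at ha
      refine hinjI n a ?_
      have h1 := Ideal.mem_map_of_mem (AdicCompletion.evalₐ J n).toRingHom ha
      rw [Ideal.map_map, show (AdicCompletion.evalₐ J n).toRingHom.comp ι = Ideal.Quotient.mk (J ^ n) from
        RingHom.ext (eval_algebraMap J n), show (AdicCompletion.evalₐ J n).toRingHom (χ a) =
        Ideal.Quotient.mk (J ^ n) (φ a) from eval_algebraMap J n _] at h1
      have h2 : φ a ∈ (((I ^ n).map φ).map (Ideal.Quotient.mk (J ^ n))).comap (Ideal.Quotient.mk (J ^ n)) := h1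
      rwa [Ideal.comap_map_of_surjective _ Ideal.Quotient.mk_surjective, ← RingHom.ker_eq_comap_bot, Ideal.mk_ker,
        sup_eq_left.2 ((Ideal.pow_right_mono hJI n).trans_eq (Ideal.map_pow φ I n).symm)] at h2
    · obtain ⟨b₁, hb₁⟩ := hsurj n b
      obtain ⟨a, ha⟩ := hsurjI n b₁
      refine ⟨a, ?_⟩
      rw [hpow]
      have h1 : Ideal.span {ι g ^ n} ≤ ((I ^ n).map φ).map ι := by
        rw [Ideal.span_singleton_le_iff_mem, ← map_pow]; exact Ideal.mem_map_of_mem _ (hgn n)
      have := add_mem (h1 hb₁) (Ideal.mem_map_of_mem ι ha)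
      rw [map_sub, sub_add_sub_cancel] at this
      exact this
    · induction i using Fin.lastCases with
      | last => exact dc_of_isAdicComplete (ι g)
      | cast i => exact dc_adicCompletion g fun n => dc_map_pow_quotient (hDC i) g n
    · refine hclop.comp (clopBij_glue ι g hinj hsurj (HenselianRing.jac (I := Ideal.span {ι g}))
        _ (hU.preimage (PrimeSpectrum.continuous_comap φ)) ?_ ?_)
      · obtain ⟨s, rfl⟩ := PrimeSpectrum.isCompact_isOpen_iff.1 ⟨hUc, hU⟩
        classical
        refine (PrimeSpectrum.isCompact_isOpen_iff.2 ⟨s.image φ, ?_⟩).1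
        rw [Finset.coe_image, Set.preimage_compl, PrimeSpectrum.preimage_comap_zeroLocus]
      · intro x hx
        show PrimeSpectrum.comap φ x ∈ U
        by_contra h
        exact hx (hUI _ h (hfs (Fin.last r)))

/-- Gabber rigidity for clopen subsets. -/
theorem clopBij_completion (I : Ideal A) (hI : I.FG) [HenselianRing A I] (U : Set (PrimeSpectrum A))
    (hU : IsOpen U) (hUc : IsCompact U) (hUI : ∀ x ∉ U, I ≤ x.asIdeal) :
    ClopBij (algebraMap A (AdicCompletion I A)) U := by
  obtain ⟨r, fs, hfs⟩ := Submodule.fg_iff_exists_fin_generating_family.1 hI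
  obtain ⟨B, _, φ, -, hinjI, hsurjI, hDC, hclop⟩ :=
    exists_chain I U hU hUc hUI r fs (fun i => hfs.le (Submodule.subset_span ⟨i, rfl⟩))
  have hIB : I.map φ = Ideal.span (Set.range fun i => φ (fs i)) := by
    rw [← hfs]
    show (Ideal.span (Set.range fs)).map φ = _
    rw [Ideal.map_span, ← Set.range_comp]
    rfl
  have hle : ∀ n, I ^ n ≤ ((I ^ n).map φ).comap φ := fun n => Ideal.le_comap_map
  have hbij : ∀ n, Function.Bijective (Ideal.quotientMap ((I ^ n).map φ) φ (hle n)) := fun n => by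
    refine ⟨(injective_iff_map_eq_zero _).2 fun z hz => ?_, fun z => ?_⟩
    · obtain ⟨a, rfl⟩ := Ideal.Quotient.mk_surjective z
      rw [Ideal.quotientMap_mk, Ideal.Quotient.eq_zero_iff_mem] at hz
      exact Ideal.Quotient.eq_zero_iff_mem.2 (hinjI n a hz)
    · obtain ⟨s, rfl⟩ := Ideal.Quotient.mk_surjective z
      obtain ⟨a, ha⟩ := hsurjI n s
      exact ⟨Ideal.Quotient.mk _ a, (Ideal.Quotient.eq.2 ha).symm⟩
  let hn : ∀ n, B →+* A ⧸ I ^ n := fun n =>
    (RingEquiv.ofBijective _ (hbij n)).symm.toRingHom.comp (Ideal.Quotient.mk _)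
  have hval : ∀ (n : ℕ) (b : B) (a : A), b - φ a ∈ (I ^ n).map φ → hn n b = Ideal.Quotient.mk _ a :=
    fun n b a h => by
      show (RingEquiv.ofBijective _ (hbij n)).symm (Ideal.Quotient.mk _ b) = _
      exact (RingEquiv.symm_apply_eq _).2 (Ideal.Quotient.eq.2 h)
  have hcompat : ∀ {m n : ℕ} (hmn : m ≤ n), (Ideal.Quotient.factorPow I hmn).comp (hn n) = hn m := by
    intro m n hmn
    refine RingHom.ext fun b => ?_
    obtain ⟨a, ha⟩ := hsurjI n b
    rw [RingHom.comp_apply, hval n b a ha, hval m b a (Ideal.map_mono (Ideal.pow_le_pow_right hmn) ha)]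
    rfl
  let ψ : B →+* AdicCompletion I A := AdicCompletion.liftRingHom I hn hcompat
  have hψφ : ψ.comp φ = algebraMap A (AdicCompletion I A) := RingHom.ext fun a => AdicCompletion.ext_evalₐ fun n => by
    rw [RingHom.comp_apply, AdicCompletion.evalₐ_liftRingHom, eval_algebraMap]
    exact hval n _ a (by rw [sub_self]; exact Submodule.zero_mem _)
  rw [← hψφ]
  refine hclop.comp (clopBij_of_homeomorph (fun x => ?_) (fun b hb => ?_) _)
  · choose a ha using fun n => Ideal.Quotient.mk_surjective (AdicCompletion.evalₐ I n x)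
    obtain ⟨s, hs⟩ := exists_forall_sub_mem (fun i => φ (fs i)) hDC (fun n => φ (a n)) fun n => by
      rw [← hIB, ← Ideal.map_pow, ← map_sub]
      refine Ideal.mem_map_of_mem _ (Ideal.Quotient.eq.1 ?_)
      rw [ha n]
      obtain ⟨z, rfl⟩ := AdicCompletion.mk_surjective I A x
      have h1 := congrArg (Ideal.Quotient.factor (Ideal.pow_le_pow_right (Nat.le_succ n))) (ha (n + 1))
      rw [Ideal.Quotient.factor_mk] at h1
      rw [h1, AdicCompletion.evalₐ_mk, AdicCompletion.evalₐ_mk, Ideal.Quotient.factor_mk]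
      refine Ideal.Quotient.eq.2 ?_
      have h2 := (z.2 (Nat.le_succ n)).symm
      rwa [SModEq.sub_mem, smul_eq_mul, Ideal.mul_top] at h2
    refine ⟨s, AdicCompletion.ext_evalₐ fun n => ?_⟩
    rw [AdicCompletion.evalₐ_liftRingHom, ← ha n]
    exact hval n s (a n) (by rw [Ideal.map_pow, hIB]; exact hs n)
  · refine isNilpotent_of_forall_mem_pow (fun i => φ (fs i)) hDC fun n => ?_
    rw [← hIB, ← Ideal.map_pow]
    obtain ⟨a, ha⟩ := hsurjI n b
    have h1 := congrArg (AdicCompletion.evalₐ I n) hb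
    rw [AdicCompletion.evalₐ_liftRingHom, hval n b a ha, map_zero, Ideal.Quotient.eq_zero_iff_mem] at h1
    have := add_mem ha (Ideal.mem_map_of_mem φ h1)
    rwa [sub_add_cancel] at this

end Groth.Agent.Rig7
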